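import Groth.Agent.KInj.Ops
import Groth.Agent.WayOut.Basic

/-!
An exact left adjoint is fully faithful on derived categories when the counit computes.
-/

set_option autoImplicit false
set_option linter.style.haveILetI false
set_option linter.unusedSectionVars false
set_option backward.isDefEq.respectTransparency false
set_option backward.isDefEq.respectTransparency.types false
set_option maxHeartbeats 1000000

universe w w' v v' u u'

open CategoryTheory Category Limits DerivedCategory

namespace Groth.Agent.TorsSh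

variable {B : Type u'} [Category.{v'} B] [Abelian B] [HasDerivedCategory.{w'} B]
  {A : Type u} [Category.{v} A] [Abelian A] [HasDerivedCategory.{w} A]
  {F : B ⥤ A} {G : A ⥤ B} (adj : F ⊣ G)
  [F.Additive] [G.Additive] [PreservesFiniteLimits F] [PreservesFiniteColimits F]

/-- enough complexes are computed by the counit -/
def CounitComputes : Prop :=
  ∀ P : CochainComplex B ℤ, ∃ I : CochainComplex A ℤ, I.IsKInjective ∧
    CochainComplex.IsKInjective ((G.mapHomologicalComplex (ComplexShape.up ℤ)).obj I) ∧
    QuasiIso ((KInj.mapHomologicalComplexAdj adj (ComplexShape.up ℤ)).counit.app I) ∧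
    Nonempty (DerivedCategory.Q.obj P ≅ DerivedCategory.Q.obj ((G.mapHomologicalComplex (ComplexShape.up ℤ)).obj I))

variable {adj}

lemma map_factors {K L : CochainComplex B ℤ} (f : K ⟶ L) :
    F.mapDerivedCategory.map (Q.map f) ≫ (F.mapDerivedCategoryFactors.app L).hom =
      (F.mapDerivedCategoryFactors.app K).hom ≫ Q.map ((F.mapHomologicalComplex _).map f) :=
  F.mapDerivedCategoryFactors.hom.naturality f

theorem faithful_mapDerived (h : CounitComputes adj) : F.mapDerivedCategory.Faithful where
  map_injective {X Y} φ ψ hφψ := by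
    let a := KInj.mapHomologicalComplexAdj adj (ComplexShape.up ℤ)
    let eX : Q.obj _ ≅ X := (Q : _ ⥤ DerivedCategory B).objObjPreimageIso X
    obtain ⟨I, hI, hGI, hq, ⟨e⟩⟩ := h ((Q : _ ⥤ DerivedCategory B).objPreimage Y)
    let eY := e.symm ≪≫ (Q : _ ⥤ DerivedCategory B).objObjPreimageIso Y
    obtain ⟨f, hf⟩ := KInj.Q_map_surjective (eX.hom ≫ φ ≫ eY.inv)
    obtain ⟨g, hg⟩ := KInj.Q_map_surjective (eX.hom ≫ ψ ≫ eY.inv)
    suffices (Q : _ ⥤ DerivedCategory B).map f = (Q : _ ⥤ DerivedCategory B).map g by
      rw [hf, hg] at this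
      rwa [cancel_epi, cancel_mono] at this
    have h₁ : Q.map ((F.mapHomologicalComplex _).map f) = Q.map ((F.mapHomologicalComplex _).map g) := by
      rw [← cancel_epi (F.mapDerivedCategoryFactors.app _).hom, ← map_factors, ← map_factors, hf, hg]
      simp [hφψ]
    have h₂ : Q.map ((a.homEquiv _ _).symm f) = Q.map ((a.homEquiv _ _).symm g) := by
      rw [a.homEquiv_counit, a.homEquiv_counit, Functor.map_comp, Functor.map_comp, h₁]
    obtain ⟨H⟩ := KInj.nonempty_homotopy_of_Q_map_eq h₂
    have H' : Homotopy ((a.homEquiv _ _).symm f) ((a.homEquiv _ _).symm g) := Homotopy.equivSubZero.symm H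
    refine DerivedCategory.Q_map_eq_of_homotopy (C := B) ?_
    refine (Homotopy.ofEq ?_).trans (((G.mapHomotopy H').compLeft (a.unit.app _)).trans (Homotopy.ofEq ?_))
    · exact ((a.homEquiv _ _).apply_symm_apply f).symm.trans (a.homEquiv_unit _ _ _)
    · exact ((a.homEquiv _ _).apply_symm_apply g).symm.trans (a.homEquiv_unit _ _ _) |>.symm

theorem full_mapDerived (h : CounitComputes adj) : F.mapDerivedCategory.Full where
  map_surjective {X Y} φ := by
    let a := KInj.mapHomologicalComplexAdj adj (ComplexShape.up ℤ)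
    let eX : Q.obj _ ≅ X := (Q : _ ⥤ DerivedCategory B).objObjPreimageIso X
    obtain ⟨I, hI, hGI, hq, ⟨e⟩⟩ := h ((Q : _ ⥤ DerivedCategory B).objPreimage Y)
    let eY := e.symm ≪≫ (Q : _ ⥤ DerivedCategory B).objObjPreimageIso Y
    let φ' := (F.mapDerivedCategoryFactors.app _).inv ≫ F.mapDerivedCategory.map eX.hom ≫ φ ≫
      F.mapDerivedCategory.map eY.inv ≫ (F.mapDerivedCategoryFactors.app _).hom
    obtain ⟨k, hk⟩ := KInj.Q_map_surjective (I := I) (φ' ≫ Q.map (a.counit.app I))
    let f := a.homEquiv _ _ k
    have hfk : (F.mapHomologicalComplex _).map f ≫ a.counit.app I = k :=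
      (a.homEquiv_counit _ _ f).symm.trans ((a.homEquiv _ _).symm_apply_apply k)
    haveI : IsIso (Q.map (a.counit.app I)) := (isIso_Q_map_iff_quasiIso A _).2 hq
    have hf : Q.map ((F.mapHomologicalComplex _).map f) = φ' := by
      rw [← cancel_mono (Q.map (a.counit.app I)), ← Functor.map_comp, hfk, hk]
    refine ⟨eX.inv ≫ Q.map f ≫ eY.hom, ?_⟩
    have hm : F.mapDerivedCategory.map (Q.map f) =
        F.mapDerivedCategory.map eX.hom ≫ φ ≫ F.mapDerivedCategory.map eY.inv := by
      rw [← cancel_mono (F.mapDerivedCategoryFactors.app _).hom, map_factors, hf]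
      simp [φ']
    rw [Functor.map_comp, Functor.map_comp, hm]
    simp only [assoc, ← Functor.map_comp_assoc, ← Functor.map_comp, Iso.inv_hom_id, Iso.inv_hom_id_assoc,
      CategoryTheory.Functor.map_id, comp_id, id_comp]

end Groth.Agent.TorsSh
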