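import Groth.Agent.TorsSh.Torsion
import Groth.Agent.KInj.Ops
import Groth.Agent.KInj.Existence
import Groth.Agent.WayOut.Basic
import Mathlib.Algebra.Homology.HomologySequence
import Mathlib.Algebra.Homology.HomologicalComplexAbelian
import Mathlib.Algebra.Homology.DerivedCategory.KInjective
import Groth.Prelude.Def_WeakSerre

/-!
`D(torsion sheaves) ≅ D_tors(sheaves)`.
-/

set_option autoImplicit false
set_option linter.style.haveILetI false
set_option linter.unusedSectionVars false
set_option backward.isDefEq.respectTransparency false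
set_option backward.isDefEq.respectTransparency.types false
set_option maxHeartbeats 1000000

universe u

open CategoryTheory Category Limits Opposite HomologicalComplex

namespace Groth.Agent.TorsSh

attribute [local instance] HasDerivedCategory.standard

variable {C : Type u} [SmallCategory C] (J : GrothendieckTopology C) [(SiteCmp.torsionSh J).IsSerreClass]

/-- torsion sheaves form an abelian category (instance search does not find Mathlib's instance by itself) -/
noncomputable instance abelianTors : Abelian (SiteCmp.torsionSh J).FullSubcategory :=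
  @ObjectProperty.instAbelianFullSubcategoryOfContainsZeroOfIsClosedUnderKernelsOfIsClosedUnderCokernelsOfIsClosedUnderFiniteProducts
    _ _ (SiteCmp.torsionSh J) _ _ _ _ _

/-- the torsion functor -/
noncomputable def torsFun : Sheaf J AddCommGrpCat.{u} ⥤ (SiteCmp.torsionSh J).FullSubcategory :=
  ObjectProperty.lift _
    { obj := tors
      map := fun {F G} φ => torsLift G (isTorsionSh_tors F) (torsι F ≫ φ)
      map_id := fun F => by rw [← cancel_mono (torsι F), torsLift_ι]; simp
      map_comp := fun {F G H} φ ψ => by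
        rw [← cancel_mono (torsι H), torsLift_ι, assoc, torsLift_ι, ← assoc (torsLift G _ _), torsLift_ι, assoc] }
    fun F => isTorsionSh_tors F

/-- it is right adjoint to the inclusion -/
noncomputable def torsAdj : (SiteCmp.torsionSh J).ι ⊣ torsFun J :=
  Adjunction.mkOfHomEquiv
    { homEquiv := fun G F =>
        { toFun := fun φ => ObjectProperty.homMk (torsLift F G.property φ)
          invFun := fun ψ => ψ.hom ≫ torsι F
          left_inv := fun φ => torsLift_ι F G.property φ
          right_inv := fun ψ => ObjectProperty.hom_ext _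
            (by rw [← cancel_mono (torsι F)]; exact torsLift_ι F G.property _) }
      homEquiv_naturality_left_symm := fun {G' G F} f g => by
        change (f ≫ g).hom ≫ torsι F = f.hom ≫ g.hom ≫ torsι F
        exact assoc _ _ _
      homEquiv_naturality_right := fun {G F F'} φ g => ObjectProperty.hom_ext _ (by
        change torsLift F' G.property (φ ≫ g) =
          torsLift F G.property φ ≫ torsLift F' (isTorsionSh_tors F) (torsι F ≫ g)
        rw [← cancel_mono (torsι F'), torsLift_ι, assoc, torsLift_ι, ← assoc, torsLift_ι]) }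

instance : (torsFun J).Additive :=
  haveI : (torsFun J).IsRightAdjoint := (torsAdj J).isRightAdjoint
  Functor.additive_of_preserves_binary_products _

/-- the torsion subcomplex -/
noncomputable abbrev torsCx (I : CochainComplex (Sheaf J AddCommGrpCat.{u}) ℤ) :
    CochainComplex (SiteCmp.torsionSh J).FullSubcategory ℤ :=
  ((torsFun J).mapHomologicalComplex (ComplexShape.up ℤ)).obj I

/-- its inclusion -/
noncomputable abbrev torsCxι (I : CochainComplex (Sheaf J AddCommGrpCat.{u}) ℤ) :
    ((SiteCmp.torsionSh J).ι.mapHomologicalComplex (ComplexShape.up ℤ)).obj (torsCx J I) ⟶ I :=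
  (KInj.mapHomologicalComplexAdj (torsAdj J) (ComplexShape.up ℤ)).counit.app I

lemma torsAdj_counit (F : Sheaf J AddCommGrpCat.{u}) : (torsAdj J).counit.app F = torsι F := by
  change 𝟙 _ ≫ torsι _ = _
  exact id_comp _

lemma torsCxι_f (I : CochainComplex (Sheaf J AddCommGrpCat.{u}) ℤ) (n : ℤ) :
    (torsCxι J I).f n = torsι (I.X n) := by
  change 𝟙 _ ≫ torsι _ = _
  exact id_comp _

/-- torsion cohomology: the torsion subcomplex computes -/
theorem quasiIso_torsCxι (I : CochainComplex (Sheaf J AddCommGrpCat.{u}) ℤ) (hI : ∀ n, Injective (I.X n))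
    (hH : ∀ n, SiteCmp.IsTorsionSh J (I.homology n)) : QuasiIso (torsCxι J I) := by
  let a := torsCxι J I
  have hmono : ∀ n, Mono (a.f n) := fun n => by rw [torsCxι_f]; infer_instance
  haveI : Mono a := HomologicalComplex.mono_of_mono_f a hmono
  let S : ShortComplex (CochainComplex (Sheaf J AddCommGrpCat.{u}) ℤ) :=
    ShortComplex.mk a (cokernel.π a) (cokernel.condition a)
  have hS : S.ShortExact := HomologicalComplex.shortExact_of_degreewise_shortExact S fun n => by
    haveI := hmono n
    exact
      { exact := ShortComplex.exact_of_g_is_cokernel _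
          (CokernelCofork.mapIsColimit _ (cokernelIsCokernel a) (HomologicalComplex.eval _ (ComplexShape.up ℤ) n))
        mono_f := hmono n
        epi_g := Cofork.IsColimit.epi
          (CokernelCofork.mapIsColimit _ (cokernelIsCokernel a) (HomologicalComplex.eval _ (ComplexShape.up ℤ) n)) }
  have hterm : ∀ n, Nonempty ((cokernel a).X n ≅ quot (I.X n)) := fun n =>
    ⟨(PreservesCokernel.iso (HomologicalComplex.eval _ (ComplexShape.up ℤ) n) a) ≪≫
      cokernel.mapIso _ _ (Iso.refl _) (Iso.refl _) (by simp [a, torsAdj_counit])⟩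
  have hiso : ∀ (m : ℤ), m ≠ 0 → ∀ n, IsIso (m • 𝟙 ((cokernel a).homology n)) := fun m hm n => by
    have hc : IsIso (m • 𝟙 (cokernel a)) := by
      haveI : ∀ k, IsIso ((m • 𝟙 (cokernel a)).f k) := fun k => by
        obtain ⟨e⟩ := hterm k
        haveI := hI k
        haveI := mono_zsmul_quot (I.X k) m hm
        haveI := epi_zsmul_quot (I.X k) m hm
        haveI : IsIso (m • 𝟙 (quot (I.X k))) := isIso_of_mono_of_epi _
        have h : (m • 𝟙 (cokernel a)).f k = e.hom ≫ (m • 𝟙 (quot (I.X k))) ≫ e.inv := by simp
        rw [h]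
        infer_instance
      exact HomologicalComplex.Hom.isIso_of_components _
    have := (HomologicalComplex.homologyFunctor _ (ComplexShape.up ℤ) n).map_isIso (m • 𝟙 (cokernel a))
    rwa [Functor.map_zsmul, CategoryTheory.Functor.map_id] at this
  have hsub : ∀ n, SiteCmp.torsionSh J (S.X₁.homology n) := fun n =>
    (SiteCmp.torsionSh J).prop_of_iso (((torsCx J I).sc n).mapHomologyIso (SiteCmp.torsionSh J).ι).symm
      ((torsCx J I).homology n).property
  have hQ : (cokernel a).Acyclic := fun n => by
    rw [exactAt_iff_isZero_homology]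
    refine isZero_of_torsion ?_ fun m hm => @IsIso.mono_of_iso _ _ _ _ _ (hiso m hm n)
    exact (SiteCmp.torsionSh J).prop_X₂_of_exact (hS.homology_exact₃ n (n + 1) rfl) (hH n) (hsub (n + 1))
  refine ⟨fun n => ?_⟩
  rw [quasiIsoAt_iff_isIso_homologyMap]
  have : Mono (homologyMap a n) :=
    (hS.homology_exact₁ (n - 1) n (by simp)).mono_g
      (((exactAt_iff_isZero_homology _ _).1 (hQ (n - 1))).eq_of_src _ _)
  have : Epi (homologyMap a n) :=
    (hS.homology_exact₂ n).epi_f (((exactAt_iff_isZero_homology _ _).1 (hQ n)).eq_of_tgt _ _)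
  exact isIso_of_mono_of_epi _

/-- torsion K-injective complexes represent everything -/
theorem exists_rep (P : CochainComplex (SiteCmp.torsionSh J).FullSubcategory ℤ) :
    ∃ I : CochainComplex (Sheaf J AddCommGrpCat.{u}) ℤ, I.IsKInjective ∧ (torsCx J I).IsKInjective ∧
      QuasiIso (torsCxι J I) ∧ Nonempty (DerivedCategory.Q.obj P ≅ DerivedCategory.Q.obj (torsCx J I)) := by
  let ιc := (SiteCmp.torsionSh J).ι.mapHomologicalComplex (ComplexShape.up ℤ)
  obtain ⟨I, g, hI, hg, -, hinj⟩ := KInj.exists_kInjective (ιc.obj P)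
  have hH : ∀ n, SiteCmp.IsTorsionSh J (I.homology n) := fun n =>
    (SiteCmp.torsionSh J).prop_of_iso (((P.sc n).mapHomologyIso (SiteCmp.torsionSh J).ι).symm ≪≫
      @asIso _ _ _ _ (homologyMap g n) ((quasiIsoAt_iff_isIso_homologyMap g n).1 (hg.quasiIsoAt n)))
      (P.homology n).property
  have hq := quasiIso_torsCxι J I hinj hH
  refine ⟨I, hI, KInj.isKInjective_rightAdjoint (torsAdj J) I hI, hq, ?_⟩
  let h := (KInj.mapHomologicalComplexAdj (torsAdj J) (ComplexShape.up ℤ)).homEquiv P I g
  have hh : ιc.map h ≫ torsCxι J I = g :=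
    ((KInj.mapHomologicalComplexAdj (torsAdj J) (ComplexShape.up ℤ)).homEquiv_counit P _ h).symm.trans
      (((KInj.mapHomologicalComplexAdj (torsAdj J) (ComplexShape.up ℤ)).homEquiv P I).symm_apply_apply g)
  have : QuasiIso (ιc.map h) := by
    haveI : QuasiIso (ιc.map h ≫ torsCxι J I) := by rw [hh]; exact hg
    exact quasiIso_of_comp_right _ (torsCxι J I)
  have hqh : QuasiIso h := (quasiIso_map_iff_of_preservesHomology h (SiteCmp.torsionSh J).ι).1 this
  exact ⟨@asIso _ _ _ _ _ ((DerivedCategory.isIso_Q_map_iff_quasiIso _ h).2 hqh)⟩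

end Groth.Agent.TorsSh
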