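import Groth.Prelude.Def_SiteCmp
import Groth.Prelude.Def_CohSite
import Groth.Agent.SiteCoh.Basic
import Mathlib.CategoryTheory.Sites.EpiMono
import Mathlib.CategoryTheory.Abelian.SerreClass.Basic

/-!
The torsion subsheaf of an abelian sheaf; divisibility of injective sheaves.
-/

set_option autoImplicit false
set_option linter.style.haveILetI false
set_option linter.unusedSectionVars false
set_option backward.isDefEq.respectTransparency false
set_option backward.isDefEq.respectTransparency.types false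
set_option maxHeartbeats 1000000

universe u

open CategoryTheory Category Limits Opposite

namespace Groth.Agent.TorsSh

variable {C : Type u} [SmallCategory C] {J : GrothendieckTopology C} (F : Sheaf J AddCommGrpCat.{u})

/-- locally of finite order -/
def IsLocTors {U : C} (s : F.obj.obj (op U)) : Prop :=
  ∃ S ∈ J U, ∀ ⦃V : C⦄ (g : V ⟶ U), S g → IsOfFinAddOrder ((F.obj.map g.op).hom s)

lemma isLocTors_map {U W : C} (a : W ⟶ U) {s : F.obj.obj (op U)} (hs : IsLocTors F s) :
    IsLocTors F (F.obj.map a.op s) := by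
  obtain ⟨S, hS, h⟩ := hs
  refine ⟨S.pullback a, J.pullback_stable a hS, fun V g hg => ?_⟩
  have := h (g ≫ a) hg
  rwa [op_comp, Functor.map_comp, ConcreteCategory.comp_apply] at this

lemma isLocTors_of_locally {U : C} {s : F.obj.obj (op U)} {S : Sieve U} (hS : S ∈ J U)
    (h : ∀ ⦃V : C⦄ (g : V ⟶ U), S g → IsLocTors F (F.obj.map g.op s)) : IsLocTors F s := by
  let T : Sieve U :=
    { arrows := fun V g => IsOfFinAddOrder ((F.obj.map g.op).hom s)
      downward_closed := fun {V W g} hg a => by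
        rw [op_comp, Functor.map_comp, ConcreteCategory.comp_apply]
        exact AddMonoidHom.isOfFinAddOrder (F.obj.map a.op).hom hg }
  refine ⟨T, J.transitive hS _ fun V g hg => ?_, fun V g hg => hg⟩
  obtain ⟨R, hR, hR'⟩ := h g hg
  refine J.superset_covering (fun W a ha => ?_) hR
  change IsOfFinAddOrder ((F.obj.map (a ≫ g).op).hom s)
  rw [op_comp, Functor.map_comp, ConcreteCategory.comp_apply]
  exact hR' a ha

/-- the torsion sections -/
def torsSubgroup (U : Cᵒᵖ) : AddSubgroup (F.obj.obj U) where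
  carrier := {s | IsLocTors F (U := U.unop) s}
  zero_mem' := ⟨⊤, J.top_mem _, fun V g _ => by rw [map_zero]; exact IsOfFinAddOrder.zero⟩
  add_mem' := fun {a b} ⟨S, hS, ha⟩ ⟨T, hT, hb⟩ => ⟨S ⊓ T, J.intersection_covering hS hT, fun V g hg => by
    rw [map_add]; exact (ha g hg.1).add (hb g hg.2)⟩
  neg_mem' := fun {a} ⟨S, hS, ha⟩ => ⟨S, hS, fun V g hg => by
    rw [map_neg]; exact isOfFinAddOrder_neg_iff.2 (ha g hg)⟩

/-- the presheaf of torsion sections -/
noncomputable def torsPre : Cᵒᵖ ⥤ AddCommGrpCat.{u} where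
  obj U := AddCommGrpCat.of (torsSubgroup F U)
  map {U W} a := AddCommGrpCat.ofHom (AddMonoidHom.mk' (fun s => ⟨F.obj.map a s.1, isLocTors_map F a.unop s.2⟩)
    fun s t => Subtype.ext (map_add _ _ _))
  map_id U := by
    ext s
    exact ConcreteCategory.congr_hom (F.obj.map_id U) s.1
  map_comp a b := by
    ext s
    exact ConcreteCategory.congr_hom (F.obj.map_comp a b) s.1

lemma isSheaf_torsPre : Presheaf.IsSheaf J (torsPre F) := by
  refine (Presheaf.isSheaf_iff_isSheaf_forget J _ (forget AddCommGrpCat.{u})).2 ?_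
  rw [isSheaf_iff_isSheaf_of_type]
  intro U S hS x hx
  have hF := (isSheaf_iff_isSheaf_of_type J _).1
    ((Presheaf.isSheaf_iff_isSheaf_forget J _ (forget AddCommGrpCat.{u})).1 F.property) S hS
  let y : Presieve.FamilyOfElements (F.obj ⋙ forget AddCommGrpCat.{u}) S.arrows := fun V g hg => (x g hg).1
  have hy : y.Compatible := fun V₁ V₂ W g₁ g₂ f₁ f₂ h₁ h₂ e =>
    congrArg Subtype.val (hx g₁ g₂ h₁ h₂ e)
  have hs := hF.amalgamate y hy
  refine ⟨⟨hF.amalgamate y hy, isLocTors_of_locally F hS fun V g hg => ?_⟩, fun V g hg => ?_, fun z hz => ?_⟩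
  · have e : F.obj.map g.op (hF.amalgamate y hy) = (x g hg).1 := hF.valid_glue hy g hg
    rw [e]
    exact (x g hg).2
  · exact Subtype.ext (hF.valid_glue hy g hg)
  · refine Subtype.ext (hF.isSeparatedFor y z.1 _ (fun V g hg => ?_) (hF.isAmalgamation hy))
    exact congrArg Subtype.val (hz g hg)

/-- the torsion subsheaf -/
noncomputable def tors : Sheaf J AddCommGrpCat.{u} := ⟨torsPre F, isSheaf_torsPre F⟩

/-- its inclusion -/
noncomputable def torsι : tors F ⟶ F :=
  ⟨{ app := fun U => AddCommGrpCat.ofHom (torsSubgroup F U).subtype }⟩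

lemma isTorsionSh_tors : SiteCmp.IsTorsionSh J (tors F) := fun U s => by
  obtain ⟨S, hS, h⟩ := s.2
  refine ⟨S, hS, fun V g hg => ?_⟩
  rw [← AddSubmonoid.isOfFinAddOrder_coe (G := F.obj.obj (op V)) (H := (torsSubgroup F (op V)).toAddSubmonoid)]
  exact h g hg

variable {F}

lemma isLocTors_of_torsion {G : Sheaf J AddCommGrpCat.{u}} (hG : SiteCmp.IsTorsionSh J G) (φ : G ⟶ F) (U : C)
    (s : G.obj.obj (op U)) : IsLocTors F (φ.hom.app (op U) s) := by
  obtain ⟨S, hS, h⟩ := hG U s
  refine ⟨S, hS, fun V g hg => ?_⟩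
  rw [← NatTrans.naturality_apply]
  exact AddMonoidHom.isOfFinAddOrder (φ.hom.app (op V)).hom (h g hg)

variable (F)

/-- maps from torsion sheaves factor through the torsion subsheaf -/
noncomputable def torsLift {G : Sheaf J AddCommGrpCat.{u}} (hG : SiteCmp.IsTorsionSh J G) (φ : G ⟶ F) :
    G ⟶ tors F :=
  ⟨{ app := fun U => AddCommGrpCat.ofHom
      (AddMonoidHom.mk' (fun s => ⟨φ.hom.app U s, isLocTors_of_torsion hG φ U.unop s⟩)
        fun s t => Subtype.ext (map_add _ _ _))
     naturality := fun U V a => by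
      ext s
      exact Subtype.ext (NatTrans.naturality_apply φ.hom a s) }⟩

lemma torsLift_ι {G : Sheaf J AddCommGrpCat.{u}} (hG : SiteCmp.IsTorsionSh J G) (φ : G ⟶ F) :
    torsLift F hG φ ≫ torsι F = φ := rfl

instance mono_torsι : Mono (torsι F) := by
  refine (sheafToPresheaf J AddCommGrpCat.{u}).mono_of_mono_map ?_
  refine @NatTrans.mono_of_mono_app _ _ _ _ _ _ _ fun U => ?_
  exact (AddCommGrpCat.mono_iff_injective _).2 Subtype.val_injective

variable {F}

lemma eq_zero_of_locally {U : C} {s : F.obj.obj (op U)} {S : Sieve U} (hS : S ∈ J U)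
    (h : ∀ ⦃V : C⦄ (g : V ⟶ U), S g → F.obj.map g.op s = 0) : s = 0 :=
  (Presieve.IsSheafFor.isSeparatedFor
    ((isSheaf_iff_isSheaf_of_type J _).1
      ((sheafCompose J (forget AddCommGrpCat.{u})).obj F).property S hS)).ext
    fun V g hg => by
      change F.obj.map g.op s = F.obj.map g.op 0
      rw [h g hg, map_zero]

/-- multiplication on sections -/
lemma zsmul_id_app (m : ℤ) (U : C) (s : F.obj.obj (op U)) :
    ((m • 𝟙 F : F ⟶ F)).hom.app (op U) s = m • s := by
  have h : (sheafToPresheaf J AddCommGrpCat.{u}).map (m • 𝟙 F) = m • 𝟙 F.obj := by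
    rw [Functor.map_zsmul, CategoryTheory.Functor.map_id]
    rfl
  change ((sheafToPresheaf J AddCommGrpCat.{u}).map (m • 𝟙 F)).app (op U) s = m • s
  rw [h, NatTrans.app_zsmul]
  rfl

/-- a torsion sheaf with injective multiplications is zero -/
theorem isZero_of_torsion (hF : SiteCmp.IsTorsionSh J F) (h : ∀ m : ℤ, m ≠ 0 → Mono (m • 𝟙 F)) : IsZero F := by
  rw [IsZero.iff_id_eq_zero]
  refine Sheaf.hom_ext ?_
  ext U s
  change s = 0
  obtain ⟨S, hS, hs⟩ := hF U.unop s
  refine eq_zero_of_locally hS fun V g hg => ?_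
  obtain ⟨n, hn, hn'⟩ := (hs g hg).exists_nsmul_eq_zero
  have := h (n : ℤ) (by omega)
  have hi : Function.Injective ((((n : ℤ) • 𝟙 F : F ⟶ F)).hom.app (op V)) := by
    have : Mono ((((n : ℤ) • 𝟙 F : F ⟶ F)).hom.app (op V)) :=
      inferInstanceAs (Mono (((sheafToPresheaf J AddCommGrpCat.{u}).map ((n : ℤ) • 𝟙 F)).app (op V)))
    exact (AddCommGrpCat.mono_iff_injective _).1 this
  refine hi ?_
  rw [map_zero, zsmul_id_app, natCast_zsmul]
  exact hn'

/-- multiplications on a free sheaf are injective -/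
theorem mono_zsmul_freeSheaf (U : C) (m : ℤ) (hm : m ≠ 0) :
    Mono (m • 𝟙 (CohCx.freeSheaf J U)) := by
  let P := yoneda.obj U ⋙ AddCommGrpCat.free.{u}
  have h1 : Mono (m • 𝟙 P) := by
    refine @NatTrans.mono_of_mono_app _ _ _ _ _ _ _ fun V => ?_
    refine (AddCommGrpCat.mono_iff_injective _).2 fun x y hxy => ?_
    rw [NatTrans.app_zsmul] at hxy
    change m • (x : FreeAbelianGroup _) = m • y at hxy
    exact (FreeAbelianGroup.equivFinsupp _).injective
      (smul_right_injective _ hm ((map_zsmul _ m x).symm.trans ((congrArg _ hxy).trans (map_zsmul _ m y))))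
  have : Mono ((presheafToSheaf J AddCommGrpCat.{u}).map (m • 𝟙 P)) := inferInstance
  rwa [Functor.map_zsmul, CategoryTheory.Functor.map_id] at this

/-- injective sheaves are divisible -/
theorem epi_zsmul_injective [Injective F] (m : ℤ) (hm : m ≠ 0) : Epi (m • 𝟙 F) := by
  refine (sheafToPresheaf J AddCommGrpCat.{u}).epi_of_epi_map ?_
  refine @NatTrans.epi_of_epi_app _ _ _ _ _ _ _ fun U => ?_
  refine (AddCommGrpCat.epi_iff_surjective _).2 fun s => ?_
  have := mono_zsmul_freeSheaf (J := J) U.unop m hm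
  let φ := (SiteCoh.secEquiv U.unop F).symm s
  obtain ⟨ψ, hψ⟩ : ∃ ψ, (m • 𝟙 (CohCx.freeSheaf J U.unop)) ≫ ψ = φ :=
    ⟨Injective.factorThru φ _, Injective.comp_factorThru _ _⟩
  refine ⟨SiteCoh.secEquiv U.unop F ψ, ?_⟩
  refine (SiteCoh.secEquiv_comp ψ (m • 𝟙 F)).symm.trans ?_
  rw [show ψ ≫ (m • 𝟙 F) = φ by rw [← hψ]; simp]
  exact AddEquiv.apply_symm_apply _ _

variable (F)

/-- the torsion-free quotient -/
noncomputable abbrev quot : Sheaf J AddCommGrpCat.{u} := cokernel (torsι F)

theorem epi_zsmul_quot [Injective F] (m : ℤ) (hm : m ≠ 0) : Epi (m • 𝟙 (quot F)) := by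
  have := epi_zsmul_injective (F := F) m hm
  have h : Epi (cokernel.π (torsι F) ≫ (m • 𝟙 (quot F))) := by
    rw [show cokernel.π (torsι F) ≫ (m • 𝟙 (quot F)) = (m • 𝟙 F) ≫ cokernel.π (torsι F) by simp]
    infer_instance
  exact epi_of_epi (cokernel.π (torsι F)) _

theorem mono_zsmul_quot (m : ℤ) (hm : m ≠ 0) : Mono (m • 𝟙 (quot F)) := by
  refine (sheafToPresheaf J AddCommGrpCat.{u}).mono_of_mono_map ?_
  refine @NatTrans.mono_of_mono_app _ _ _ _ _ _ _ fun U => ?_
  refine (AddCommGrpCat.mono_iff_injective _).2 ((injective_iff_map_eq_zero _).mpr fun s hs => ?_)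
  change ((m • 𝟙 (quot F) : quot F ⟶ quot F)).hom.app U s = 0 at hs
  replace hs := (zsmul_id_app (F := quot F) m U.unop s).symm.trans hs
  have hls : Sheaf.IsLocallySurjective (cokernel.π (torsι F)) :=
    (Sheaf.isLocallySurjective_iff_epi' AddCommGrpCat.{u} (cokernel.π (torsι F) : F ⟶ quot F)).2 inferInstance
  refine eq_zero_of_locally (Presheaf.imageSieve_mem J (cokernel.π (torsι F)).hom s) fun V g hg => ?_
  obtain ⟨x, hx⟩ := hg
  have hker : (cokernel.π (torsι F)).hom.app (op V) (m • x) = 0 := by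
    rw [map_zsmul, hx, ← map_zsmul]
    exact (congrArg ((quot F).obj.map g.op).hom hs).trans (map_zero _)
  have hk : IsLimit (KernelFork.ofι (torsι F) (cokernel.condition (torsι F))) :=
    (ShortComplex.exact_of_g_is_cokernel (ShortComplex.mk (torsι F) _ (cokernel.condition (torsι F)))
      (cokernelIsCokernel (torsι F))).fIsKernel
  obtain ⟨l, hl⟩ := KernelFork.IsLimit.lift' hk ((SiteCoh.secEquiv V F).symm (m • x))
    ((SiteCoh.secEquiv V _).injective (by
      rw [SiteCoh.secEquiv_comp, AddEquiv.apply_symm_apply, map_zero]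
      exact hker))
  change l ≫ torsι F = _ at hl
  have hmx : IsLocTors F (m • x) := by
    have e := congrArg (SiteCoh.secEquiv V F) hl
    rw [SiteCoh.secEquiv_comp, AddEquiv.apply_symm_apply] at e
    rw [← e]
    exact (SiteCoh.secEquiv V (tors F) l).2
  have hx' : IsLocTors F x := by
    obtain ⟨S, hS, h⟩ := hmx
    refine ⟨S, hS, fun W a ha => ?_⟩
    have := h a ha
    rw [map_zsmul] at this
    obtain ⟨n, hn, hn'⟩ := this.exists_nsmul_eq_zero
    rw [← natCast_zsmul, smul_smul] at hn'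
    exact isOfFinAddOrder_iff_zsmul_eq_zero.2 ⟨(n : ℤ) * m, mul_ne_zero (by omega) hm, hn'⟩
  rw [← hx]
  exact ConcreteCategory.congr_hom (congr_arg (fun φ : tors F ⟶ quot F => φ.hom.app (op V))
    (cokernel.condition (torsι F))) (⟨x, hx'⟩ : torsSubgroup F (op V))

end Groth.Agent.TorsSh
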